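import Cfsg.Agent.SzPairs46.SimpleTwo
import Cfsg.Agent.SzPairs46.Lift

/-!
# Glauberman's characterisation of the Suzuki groups by local fusion

Stated relative to the exclusion of the configuration of order 64.
-/

set_option autoImplicit false

namespace CfsgLib.SzPairs46

open Cfsg CfsgLib

universe u

/-- The theorem, given the exclusion of the configuration of order 64. -/
theorem main_of_unitary {G : Type u} [Group G] [Finite G] {p : ℕ} [Fact p.Prime]
    (hunit : ∀ (T : Type u) [Group T] [Finite T] [IsSimpleGroup T] (P : Sylow 2 T) (n : T),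
      LocalFusion83.Unitary P n → False)
    (hcore : Cfsg.pPrimeCore p G = ⊥) (P : Sylow p G) (hnn : ¬ (P : Subgroup G).Normal)
    (ha : ∀ x ∈ (P : Subgroup G), ∀ y ∈ (P : Subgroup G), (∃ g : G, g * x * g⁻¹ = y) →
      ∃ n ∈ Subgroup.normalizer ((P : Subgroup G) : Set G), n * x * n⁻¹ = y)
    (hb : ∀ x ∈ (P : Subgroup G), orderOf x = p →
      Cfsg.HasNormalPComplement p ↥(Subgroup.centralizer ({x} : Set G)))
    (hc : ∀ x y : G, orderOf x = p → orderOf y = p →
      Cfsg.IsPSolvable p ↥(Subgroup.closure ({x, y} : Set G)))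
    (hd : ¬ (p = 2 ∧ Cfsg.IsElementaryAbelian 2 (P : Subgroup G) ∧
      ∀ x ∈ (P : Subgroup G), ∀ y ∈ (P : Subgroup G), x ≠ 1 → y ≠ 1 → ∃ g : G, g * x * g⁻¹ = y)) :
    p = 2 ∧ Cfsg.Lie.IsoSuzuki G :=
  main_of
    (fun T _ _ _ hnc hdvd Q hQ => simple_two_of (hunit T) hnc hdvd Q hQ)
    (fun P' h M _ _ hnc hdvd hC Q hQ hQP hcase => lift_two P' h M hnc hdvd hC Q hQ hQP hcase)
    hcore P hnn ⟨ha, hb, hc⟩ hd

end CfsgLib.SzPairs46
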