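import Cfsg.Agent.SzPairs46.Main
import Cfsg.Agent.LocalFusion83.RankThree
import Cfsg.Agent.LocalFusion83.RankTwo
import Cfsg.Agent.LocalFusion83.Models
import Cfsg.Agent.RankOne.Classify.GlueBender
import Cfsg.Agent.RankOne.Classify.AllPPlusProof
import Cfsg.Agent.RankOne.Classify.PiecesProof

/-!
# The simple case for `p = 2`

Stated relative to the exclusion of the configuration of order 64.
-/

set_option autoImplicit false

namespace CfsgLib.SzPairs46

open Cfsg CfsgLib

universe u

/-- A simple group satisfying the hypotheses has elementary transitive Sylow 2-subgroups or is a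
Suzuki group. -/
theorem simple_two_of {T : Type u} [Group T] [Finite T] [IsSimpleGroup T]
    (hunit : ∀ (P : Sylow 2 T) (n : T), LocalFusion83.Unitary P n → False)
    (hnc : ¬ IsMulCommutative T) (hdvd : 2 ∣ Nat.card T) (P : Sylow 2 T) (h : Hyp P) :
    ElemTrans P ∨ Cfsg.Lie.IsoSuzuki T := by
  by_cases het : ElemTrans P
  · exact Or.inl het
  right
  have h' : LocalFusion83.Hyp P :=
    LocalFusion83.Hyp.of_simple hnc hdvd P h.ctrl h.nilp het
  by_cases hr : PRankLE 2 2 T
  · obtain ⟨n, hn⟩ := h'.exists_unitary hr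
    exact (hunit P n hn).elim
  obtain ⟨A, hA, hA8, hZA⟩ := h'.exists_elementary hr
  obtain ⟨H, hH⟩ := h'.exists_stronglyEmbedded hA hA8 hZA
  obtain ⟨h2, hcore⟩ := CfsgLib.RankOneClassify.rankTwo_of_simple hH
  obtain ⟨Q, hQ, -, -⟩ := CfsgLib.RankOneClassify.allPPlus T H hH h2 hcore
  rcases CfsgLib.RankOneClassify.simple_list CfsgLib.RankOneClassify.pieces hH hQ with
    ⟨F, hFi, hFt, n, hn, hF, ⟨e⟩⟩ | hSz | ⟨F, hFi, hFt, n, hn, hF, ⟨e⟩⟩
  · letI := hFi; letI := hFt
    exact (h'.not_psl_two hF e).elim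
  · exact hSz
  · letI := hFi; letI := hFt
    exact (h'.not_psu_three hn hF e).elim

end CfsgLib.SzPairs46
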